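import Mathlib

/-! Integer lemmas for 2-blocks with elementary abelian defect group of order 16. -/

set_option autoImplicit false
set_option linter.unusedSectionVars false

namespace CfsgLib.D16

open Matrix

variable {ι : Type*} [Fintype ι]

theorem sq_dot (x : ι → ℤ) : ∑ i, x i ^ 2 = x ⬝ᵥ x := Finset.sum_congr rfl fun _ _ => sq _

/-- two vectors of odd norm on which `x` has values of different parity -/
theorem comb (x u v : ι → ℤ) (hu : Odd (u ⬝ᵥ u)) (hv : Odd (v ⬝ᵥ v)) (h1 : Even (u ⬝ᵥ x))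
    (h2 : Odd (v ⬝ᵥ x)) : ((v ⬝ᵥ x) • u - (u ⬝ᵥ x) • v) ⬝ᵥ x = 0 ∧
      Odd (((v ⬝ᵥ x) • u - (u ⬝ᵥ x) • v) ⬝ᵥ ((v ⬝ᵥ x) • u - (u ⬝ᵥ x) • v)) := by
  simp only [sub_dotProduct, dotProduct_sub, smul_dotProduct, dotProduct_smul, smul_eq_mul,
    dotProduct_comm v u]
  obtain ⟨a, ha⟩ := hu
  obtain ⟨b, hb⟩ := hv
  obtain ⟨c, hc⟩ := h1
  obtain ⟨d, hd⟩ := h2
  rw [ha, hb, hc, hd]
  exact ⟨by ring, ⟨(2 * d + 1) ^ 2 * a + 2 * d * d + 2 * d - (2 * d + 1) * (c + c) * (u ⬝ᵥ v) +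
    2 * c * c * (2 * b + 1), by ring⟩⟩

theorem e15 (x : ι → ℤ) (h0 : ∃ i, Odd (x i))
    (ev : ∀ n : ι → ℤ, ∑ i, n i * x i = 0 → Even (∑ i, n i ^ 2)) (i : ι) : Odd (x i) := by
  classical
  obtain ⟨j, hj⟩ := h0
  refine Int.not_even_iff_odd.1 fun hi => ?_
  obtain ⟨h1, h2⟩ := comb x (Pi.single i 1) (Pi.single j 1) (by simp) (by simp) (by simpa using hi)
    (by simpa using hj)
  exact Int.not_even_iff_odd.2 h2 (by rw [← sq_dot]; exact ev _ h1)

theorem sgn {x y : ι → ℤ} {j : ι} (hj : Odd (x j)) (h : ∀ i j, 4 ∣ x i * x j - y i * y j) :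
    ∃ e : ℤ, e * e = 1 ∧ ∀ i, 4 ∣ x i - e * y i := by
  obtain ⟨a, ha⟩ := hj
  have hy : Odd (y j) := by
    refine Int.not_even_iff_odd.1 fun ⟨b, hb⟩ => ?_
    obtain ⟨c, hc⟩ := h j j
    rw [ha, hb] at hc
    have : 4 * (a * a + a - b * b - c) = -1 := by linear_combination hc
    omega
  obtain ⟨b, hb⟩ := hy
  rcases Int.even_or_odd (a - b) with ⟨c, hc⟩ | ⟨c, hc⟩
  · refine ⟨1, rfl, fun i => ?_⟩
    obtain ⟨t, ht⟩ := h i j
    rw [ha, hb, show a = b + (c + c) by omega] at ht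
    exact ⟨(2 * b + 1) * (t - c * x i) - (b * b + b) * (x i - y i), by linear_combination (2 * b + 1) * ht⟩
  · refine ⟨-1, rfl, fun i => ?_⟩
    obtain ⟨t, ht⟩ := h i j
    rw [ha, hb, show a = b + (2 * c + 1) by omega] at ht
    exact ⟨-(2 * b + 1) * (t - (b + c + 1) * x i) - (b * b + b) * (x i + y i),
      by linear_combination -(2 * b + 1) * ht⟩

theorem e5' (x y z : ι → ℤ) (hx : x ⬝ᵥ x = 16) (hy : y ⬝ᵥ y = 16) (hz : z ⬝ᵥ z = 16)
    (xy : x ⬝ᵥ y = 0) (xz : x ⬝ᵥ z = 0) (yz : y ⬝ᵥ z = 0) (c1 : ∀ i, 4 ∣ x i - y i)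
    (c2 : ∀ i, 4 ∣ y i - z i) (h0 : ∃ i, Odd (x i))
    (ev : ∀ n : ι → ℤ, n ⬝ᵥ x = 0 → n ⬝ᵥ y = 0 → n ⬝ᵥ z = 0 → Even (n ⬝ᵥ n)) (i : ι) :
    Odd (x i) := by
  classical
  choose w hw using c1
  choose v hv using c2
  have ey : y = x - (4 : ℤ) • w := funext fun k => by simp [← hw k]
  have ez : z = x - (4 : ℤ) • w - (4 : ℤ) • v := funext fun k => by simp [← hw k, ← hv k]
  subst ez ey
  simp only [sub_dotProduct, dotProduct_sub, smul_dotProduct, dotProduct_smul, smul_eq_mul,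
    dotProduct_comm w x, dotProduct_comm v x, dotProduct_comm v w] at hy hz xy xz yz ev
  have f1 : x ⬝ᵥ w = 4 := by omega
  have f2 : x ⬝ᵥ v = 0 := by omega
  have f3 : w ⬝ᵥ w = 2 := by omega
  have f4 : w ⬝ᵥ v = -1 := by omega
  have f5 : v ⬝ᵥ v = 2 := by omega
  let u : ι → ι → ℤ := fun k => (3 : ℤ) • Pi.single k 1 - (2 * w k + v k) • w - (w k + 2 * v k) • v
  have g : ∀ k, u k ⬝ᵥ w = 0 ∧ u k ⬝ᵥ v = 0 ∧ u k ⬝ᵥ x = 3 * x k - 4 * (2 * w k + v k) ∧
      Odd (u k ⬝ᵥ u k) := fun k => by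
    simp only [u, sub_dotProduct, smul_dotProduct]
    simp only [dotProduct_sub, dotProduct_smul, smul_eq_mul,
      dotProduct_comm w x, dotProduct_comm v x, dotProduct_comm v w, single_dotProduct,
      dotProduct_single, f1, f2, f3, f4, f5, Pi.single_eq_same]
    exact ⟨by ring, by ring, by ring, ⟨4 - 3 * (w k * w k + w k * v k + v k * v k), by ring⟩⟩
  obtain ⟨j, b, hb⟩ := h0
  refine Int.not_even_iff_odd.1 fun ⟨a, ha⟩ => ?_
  obtain ⟨h1, h2⟩ := comb x (u i) (u j) (g i).2.2.2 (g j).2.2.2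
    (by rw [(g i).2.2.1, ha]; exact ⟨3 * a - 2 * (2 * w i + v i), by ring⟩)
    (by rw [(g j).2.2.1, hb]; exact ⟨3 * b + 1 - 2 * (2 * w j + v j), by ring⟩)
  have h3 : ((u j ⬝ᵥ x) • u i - (u i ⬝ᵥ x) • u j) ⬝ᵥ w = 0 := by
    rw [sub_dotProduct, smul_dotProduct, smul_dotProduct, (g i).1, (g j).1]; simp
  have h4 : ((u j ⬝ᵥ x) • u i - (u i ⬝ᵥ x) • u j) ⬝ᵥ v = 0 := by
    rw [sub_dotProduct, smul_dotProduct, smul_dotProduct, (g i).2.1, (g j).2.1]; simp
  exact Int.not_even_iff_odd.2 h2 (ev _ h1 (by rw [h1, h3]; simp) (by rw [h1, h3, h4]; simp))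

theorem e5 (x y z : ι → ℤ) (hx : ∑ i, x i ^ 2 = 16) (hy : ∑ i, y i ^ 2 = 16) (hz : ∑ i, z i ^ 2 = 16)
    (xy : ∑ i, x i * y i = 0) (xz : ∑ i, x i * z i = 0) (yz : ∑ i, y i * z i = 0)
    (c1 : ∀ i j, 4 ∣ x i * x j - y i * y j) (c2 : ∀ i j, 4 ∣ x i * x j - z i * z j)
    (h0 : ∃ i, Odd (x i))
    (ev : ∀ n : ι → ℤ, ∑ i, n i * x i = 0 → ∑ i, n i * y i = 0 → ∑ i, n i * z i = 0 →
      Even (∑ i, n i ^ 2)) (i : ι) : Odd (x i) := by
  obtain ⟨j, hj⟩ := h0
  obtain ⟨e, he, h1⟩ := sgn hj c1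
  obtain ⟨f, hf, h2⟩ := sgn hj c2
  rw [sq_dot] at hx hy hz
  change x ⬝ᵥ y = 0 at xy
  change x ⬝ᵥ z = 0 at xz
  change y ⬝ᵥ z = 0 at yz
  have e0 : e ≠ 0 := by rintro rfl; simp at he
  have f0 : f ≠ 0 := by rintro rfl; simp at hf
  refine e5' x (e • y) (f • z) hx ?_ ?_ ?_ ?_ ?_ h1 (fun k => ?_) ⟨j, hj⟩ (fun n n1 n2 n3 => ?_) i
  · rw [smul_dotProduct, dotProduct_smul, smul_eq_mul, smul_eq_mul, ← mul_assoc, he, hy, one_mul]
  · rw [smul_dotProduct, dotProduct_smul, smul_eq_mul, smul_eq_mul, ← mul_assoc, hf, hz, one_mul]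
  · rw [dotProduct_smul, xy, smul_zero]
  · rw [dotProduct_smul, xz, smul_zero]
  · rw [smul_dotProduct, dotProduct_smul, yz, smul_zero, smul_zero]
  · have := dvd_sub (h2 k) (h1 k)
    simpa using this
  · rw [dotProduct_smul, smul_eq_mul, mul_eq_zero] at n2 n3
    exact sq_dot n ▸ ev n n1 (n2.resolve_left e0) (n3.resolve_left f0)

/-- half of the even part -/
def hf (d : ι → ℤ) (i : ι) : ℤ := if Even (d i) then d i / 2 else 0

theorem key9 (d : ι → ℤ) (N : Matrix ι ι ℤ) (hs : Nᵀ = N) (h2 : N * N = (4 : ℤ) • N)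
    (hd : N *ᵥ d = (4 : ℤ) • d) (h16 : ∑ i, d i ^ 2 = 16) (nz : ∀ i, d i ≠ 0) (h0 : ∃ i, Odd (d i)) :
    N *ᵥ hf d = (4 : ℤ) • hf d := by
  classical
  obtain ⟨j0, hj0⟩ := h0
  set h := hf d with hh
  have le : ∀ i, d i ^ 2 ≤ 16 := fun i => h16 ▸
    Finset.single_le_sum (f := fun i => d i ^ 2) (fun _ _ => sq_nonneg _) (Finset.mem_univ i)
  have cs : ∀ i, (d i = 2 * h i ∧ h i * h i = 1) ∨ (h i = 0 ∧ Odd (d i)) := fun i => by
    by_cases e : Even (d i)
    · left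
      have ne : i ≠ j0 := fun e' => Int.not_even_iff_odd.2 hj0 (e' ▸ e)
      have := Finset.sum_le_sum_of_subset_of_nonneg (f := fun i => d i ^ 2) (Finset.subset_univ {i, j0})
        fun _ _ _ => sq_nonneg _
      rw [Finset.sum_pair ne, h16] at this
      have p := sq_pos_of_ne_zero (nz j0)
      have n := nz i
      obtain ⟨a, ha⟩ := e
      have e1 : h i = a := by simp only [hh, hf]; rw [if_pos ⟨a, ha⟩]; omega
      rw [ha] at this n
      rw [e1, ha]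
      refine ⟨by ring, ?_⟩
      have : a ≤ 1 := by nlinarith
      have : -1 ≤ a := by nlinarith
      have : a = 1 ∨ a = -1 := by omega
      rcases this with rfl | rfl <;> rfl
    · exact .inr ⟨by simp only [hh, hf, if_neg e], Int.not_even_iff_odd.1 e⟩
  have sy : ∀ i j, N j i = N i j := fun i j => congrFun (congrFun hs i) j
  have par : ∀ i, ∃ a, (N *ᵥ h) i = 2 * (a + h i) := fun i => by
    have e1 : ∑ j, N i j * N i j = 4 * N i i := by
      have := congrFun (congrFun h2 i) i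
      simpa only [Matrix.mul_apply, sy i, Matrix.smul_apply, smul_eq_mul] using this
    have e2 : ∑ j, N i j * d j = 4 * d i := congrFun hd i
    have e3 : Even (∑ j, (N i j * h j + N i j * N i j + N i j * d j)) :=
      Finset.even_sum _ fun j _ => by
        rcases cs j with ⟨a, b⟩ | ⟨a, b, hb⟩
        · rw [a]
          rcases Int.eq_one_or_neg_one_of_mul_eq_one b with c | c <;> rw [c] <;>
            rcases Int.even_or_odd (N i j) with ⟨t, ht⟩ | ⟨t, ht⟩ <;> rw [ht]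
          exacts [⟨3 * t + 2 * t * t, by ring⟩, ⟨5 * t + 2 * t * t + 2, by ring⟩,
            ⟨-3 * t + 2 * t * t, by ring⟩, ⟨-t + 2 * t * t - 1, by ring⟩]
        · rw [a, hb]
          obtain ⟨t, ht⟩ := Int.even_mul_succ_self (N i j)
          exact ⟨t + N i j * b, by linear_combination ht⟩
    rw [Finset.sum_add_distrib, Finset.sum_add_distrib, e1, e2] at e3
    obtain ⟨t, ht⟩ := e3
    refine ⟨t - 2 * N i i - 2 * d i - h i, ?_⟩
    change ∑ j, N i j * h j = _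
    linear_combination ht
  choose a ha using par
  have ea : N *ᵥ h = (2 : ℤ) • (a + h) := funext ha
  have tr : ∀ u v : ι → ℤ, (N *ᵥ u) ⬝ᵥ v = u ⬝ᵥ N *ᵥ v := fun u v => by
    rw [dotProduct_mulVec, ← mulVec_transpose, hs]
  have dh : h ⬝ᵥ d = 2 * h ⬝ᵥ h := by
    simp only [dotProduct, Finset.mul_sum]
    refine Finset.sum_congr rfl fun j _ => ?_
    rcases cs j with ⟨b, -⟩ | ⟨b, -⟩ <;> rw [b] <;> ring
  have n1 := tr h (N *ᵥ h)
  rw [mulVec_mulVec, h2, smul_mulVec, ea] at n1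
  have n2 := tr h d
  rw [hd, ea] at n2
  simp only [add_dotProduct, dotProduct_add, smul_dotProduct, dotProduct_smul, smul_eq_mul,
    dotProduct_comm h a, dh] at n1 n2
  have m1 : a ⬝ᵥ a = h ⬝ᵥ h := by omega
  have m2 : a ⬝ᵥ d = 2 * h ⬝ᵥ h := by omega
  have pos : ∀ j ∈ Finset.univ, 0 ≤ (a j - h j) ^ 2 - a j * (d j - 2 * h j) := fun j _ => by
    rcases cs j with ⟨b, -⟩ | ⟨b, c, hc⟩
    · rw [b, sub_self, mul_zero, sub_zero]; exact sq_nonneg _
    rw [b]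
    by_contra hn
    have l := le j
    have c1 : c ≤ 1 := by nlinarith
    have c2 : -2 ≤ c := by nlinarith
    have d9 : d j ^ 2 = 9 := by
      rw [hc] at hn ⊢
      have : c = 1 ∨ c = 0 ∨ c = -1 ∨ c = -2 := by omega
      rcases this with rfl | rfl | rfl | rfl
      · rfl
      · exact absurd (by rcases le_or_gt (a j) 0 with e | e <;> nlinarith) hn
      · exact absurd (by rcases le_or_gt 0 (a j) with e | e <;> nlinarith) hn
      · rfl
    have k1 : 9 + 4 * h ⬝ᵥ h ≤ 16 := by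
      have := Finset.single_le_sum (f := fun i => d i ^ 2 - 4 * (h i * h i)) (fun i _ => by
        rcases cs i with ⟨b, -⟩ | ⟨b, -⟩ <;> rw [b] <;> nlinarith [sq_nonneg (d i)]) (Finset.mem_univ j)
      rw [Finset.sum_sub_distrib, ← Finset.mul_sum, h16, b, d9] at this
      change _ ≤ 16 - 4 * h ⬝ᵥ h at this
      omega
    have a0 : a j ≠ 0 := fun e => hn (by rw [e]; simp)
    have a1 := mul_self_pos.2 a0
    have s1 := Finset.add_sum_erase Finset.univ (fun i => a i * a i) (Finset.mem_univ j)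
    have s2 := Finset.add_sum_erase Finset.univ (fun i => a i * d i) (Finset.mem_univ j)
    have s3 : 0 ≤ ∑ i ∈ Finset.univ.erase j, a i * a i := Finset.sum_nonneg fun _ _ => mul_self_nonneg _
    change _ = a ⬝ᵥ a at s1
    change _ = a ⬝ᵥ d at s2
    have s4 : ∑ i ∈ Finset.univ.erase j, a i * a i = 0 := by omega
    rw [Finset.sum_eq_zero fun i hi => by
      rw [mul_self_eq_zero.1 ((Finset.sum_eq_zero_iff_of_nonneg fun _ _ => mul_self_nonneg _).1 s4 i hi),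
        zero_mul]] at s2
    have s5 : a j * a j = 1 := by omega
    have s6 : a j * d j = 2 := by omega
    have : (a j * d j) ^ 2 = 9 := by rw [mul_pow, d9, sq, s5, one_mul]
    rw [s6] at this
    omega
  have z1 := (Finset.sum_eq_zero_iff_of_nonneg pos).1 (by
    have : ∑ j, ((a j - h j) ^ 2 - a j * (d j - 2 * h j)) = a ⬝ᵥ a + h ⬝ᵥ h - a ⬝ᵥ d := by
      simp only [dotProduct, ← Finset.sum_add_distrib, ← Finset.sum_sub_distrib]
      exact Finset.sum_congr rfl fun _ _ => by ring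
    omega)
  have z2 : ∀ j, d j = 2 * h j → a j = h j := fun j e => by
    have := z1 j (Finset.mem_univ j)
    rw [e, sub_self, mul_zero, sub_zero] at this
    exact sub_eq_zero.1 (pow_eq_zero_iff two_ne_zero |>.1 this)
  have z3 := (Finset.sum_eq_zero_iff_of_nonneg (s := Finset.univ) (f := fun j => a j * a j - h j * h j)
    fun j _ => by
      rcases cs j with ⟨b, -⟩ | ⟨b, -⟩
      · rw [z2 j b, sub_self]
      · rw [b]; nlinarith [mul_self_nonneg (a j)]).1 (by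
      rw [Finset.sum_sub_distrib]; exact sub_eq_zero.2 m1)
  rw [ea]
  funext j
  have : a j = h j := by
    rcases cs j with ⟨b, -⟩ | ⟨b, -⟩
    · exact z2 j b
    · have := z3 j (Finset.mem_univ j)
      rw [b] at this ⊢
      simpa using this
  simp only [Pi.smul_apply, Pi.add_apply, this, smul_eq_mul]; ring

theorem e9 (d : ι → ℤ) (A₁ A₂ : Matrix ι ι ℤ) (s1 : A₁ᵀ = A₁) (s2 : A₂ᵀ = A₂)
    (q1 : A₁ * A₁ = (16 : ℤ) • A₁) (q2 : A₂ * A₂ = (16 : ℤ) • A₂) (q12 : A₁ * A₂ = 0)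
    (v1 : A₁ *ᵥ d = 0) (v2 : A₂ *ᵥ d = 0) (c1 : ∀ i j, 4 ∣ A₁ i j + d i * d j)
    (c2 : ∀ i j, 4 ∣ A₂ i j + d i * d j) (h16 : ∑ i, d i ^ 2 = 16) (nz : ∀ i, d i ≠ 0)
    (h0 : ∃ i, Odd (d i)) (i : ι) : Odd (d i) := by
  classical
  have dd : d ⬝ᵥ d = 16 := sq_dot d ▸ h16
  have k : ∀ A : Matrix ι ι ℤ, Aᵀ = A → A * A = (16 : ℤ) • A → A *ᵥ d = 0 →
      (∀ i j, 4 ∣ A i j + d i * d j) → A *ᵥ hf d = (16 : ℤ) • hf d - (d ⬝ᵥ hf d) • d := fun A s q v c => by
    choose N hN using c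
    have e : (4 : ℤ) • Matrix.of N = A + vecMulVec d d := by
      ext i j; simp [vecMulVec_apply, hN]
    have inj : ∀ {X Y : Matrix ι ι ℤ}, (4 : ℤ) • X = (4 : ℤ) • Y → X = Y := fun h =>
      smul_right_injective _ (by norm_num) h
    have inj' : ∀ {X Y : ι → ℤ}, (4 : ℤ) • X = (4 : ℤ) • Y → X = Y := fun h =>
      smul_right_injective _ (by norm_num) h
    have v' : d ᵥ* A = 0 := by rw [← mulVec_transpose, s, v]
    have := key9 d (Matrix.of N) (inj (by rw [← transpose_smul, e, transpose_add, s, transpose_vecMulVec]))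
      (inj (inj (by
        rw [← smul_mul_assoc, ← mul_smul_comm, e, add_mul, mul_add,
          mul_add, q, mul_vecMulVec, v, vecMulVec_mul, v', vecMulVec_mul, vecMul_vecMulVec, dd]
        ext i j
        simp only [Matrix.add_apply, Matrix.smul_apply, vecMulVec_apply, Pi.smul_apply, Pi.zero_apply, smul_eq_mul]
        ring)))
      (inj' (by rw [← smul_mulVec, e, add_mulVec, v, vecMulVec_mulVec, dd]; ext i; simp; ring)) h16 nz h0
    have e2 := congrArg (fun X : Matrix ι ι ℤ => X *ᵥ hf d) e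
    simp only [smul_mulVec, this, add_mulVec, vecMulVec_mulVec] at e2
    ext i
    have := congrFun e2 i
    simp at this ⊢
    linear_combination -this
  have e := congrArg (fun X : Matrix ι ι ℤ => X *ᵥ hf d) q12
  simp only [← mulVec_mulVec, k A₂ s2 q2 v2 c2, mulVec_sub, mulVec_smul, v1, k A₁ s1 q1 v1 c1,
    zero_mulVec] at e
  obtain ⟨j, hj⟩ := h0
  have ej := congrFun e j
  have ei := congrFun e i
  have hj' : hf d j = 0 := if_neg (Int.not_even_iff_odd.2 hj)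
  simp [hj', nz j] at ej
  simp [ej] at ei
  refine Int.not_even_iff_odd.1 fun hi => nz i ?_
  rw [hf, if_pos hi] at ei
  obtain ⟨a, ha⟩ := hi
  omega

end CfsgLib.D16
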